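import Mathlib
import Cfsg.Agent.Lib.Helper9.ClassGraph8
import Cfsg.Agent.Lib.Helper11.PSingB2

/-!
S4321 [B3]: Lemma D transferred to the subgroup `C(a)` of `G`.
-/

set_option autoImplicit false

namespace Cfsg.Agent.Lib.Helper24.PSing

open Subgroup
open Cfsg.Agent.Lib.Helper9.ClassGraph

variable {G : Type*} [Group G]

/-- [B3] Lemma D transferred to the subgroup `C(a)` of `G` -/
theorem cent_eq_mul [Finite G] (p : ℕ) [Fact p.Prime] {a : G} (P : Sylow p G)
    (hPa : (P : Subgroup G) ≤ centralizer ({a} : Set G))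
    (hQ : ∀ k ∈ centralizer ({a} : Set G), (orderOf k).Coprime p →
      ∃ Q : Sylow p G, (Q : Subgroup G) ≤ centralizer ({a} : Set G) ⊓ centralizer ({k} : Set G)) :
    ∀ l ∈ centralizer ({a} : Set G), ∃ u ∈ (P : Subgroup G), ∃ c : G,
      (∀ q ∈ (P : Subgroup G), Commute q c) ∧ l = u * c := by
  intro l hl
  have key := lemmaD (L := (centralizer ({a} : Set G))) p (P.subtype hPa) ?_ ⟨l, hl⟩
  · obtain ⟨u, hu, c, hc, e⟩ := key
    have hu' : (u : G) ∈ (P : Subgroup G) := by
      have h1 : u ∈ ((P.subtype hPa : Sylow p (centralizer ({a} : Set G))) :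
          Subgroup (centralizer ({a} : Set G))) := hu
      rw [Sylow.coe_subtype, mem_subgroupOf] at h1
      exact h1
    refine ⟨(u : G), hu', (c : G), ?_, ?_⟩
    · intro q hq
      have hq' : (⟨q, hPa hq⟩ : centralizer ({a} : Set G)) ∈
          ((P.subtype hPa : Sylow p (centralizer ({a} : Set G))) :
          Subgroup (centralizer ({a} : Set G))) := by
        rw [Sylow.coe_subtype, mem_subgroupOf]
        exact hq
      have h2 := hc _ hq'
      have h3 := congrArg Subtype.val h2.eq
      show q * (c : G) = (c : G) * q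
      simpa using h3
    · have h3 := congrArg Subtype.val e
      simpa using h3
  · intro k hk
    have hk' : (orderOf (k : G)).Coprime p := by rwa [Subgroup.orderOf_coe]
    obtain ⟨Q, hQle⟩ := hQ (k : G) k.2 hk'
    have hQa : (Q : Subgroup G) ≤ centralizer ({a} : Set G) := hQle.trans inf_le_left
    refine ⟨Q.subtype hQa, ?_⟩
    intro q hq
    have h1 : q ∈ ((Q.subtype hQa : Sylow p (centralizer ({a} : Set G))) :
        Subgroup (centralizer ({a} : Set G))) := hq
    rw [Sylow.coe_subtype, mem_subgroupOf] at h1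
    have h2 : (q : G) ∈ centralizer ({(k : G)} : Set G) := (hQle h1).2
    rw [mem_cent] at h2
    apply Subtype.ext
    simpa using h2

end Cfsg.Agent.Lib.Helper24.PSing
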