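import Mathlib
import Cfsg.Agent.Lib.Helper9.ClassGraph8
import Cfsg.Agent.Lib.Helper13.Sylow
import Cfsg.Agent.Lib.Helper13.PSingB1
import Cfsg.Agent.Lib.Helper24.PSing.B3
import Cfsg.Agent.Lib.Helper20.PSingB456
import Cfsg.Agent.Lib.Helper20.PSingB7
import Cfsg.Agent.Lib.Helper11.PSingB8

/-!
S4321 [B9]: Stage 2 assembly.
-/

set_option autoImplicit false

namespace Cfsg.Agent.Lib.Helper24.PSing

open Subgroup
open Cfsg.Agent.Lib.Helper9.ClassGraph

variable {G : Type*} [Group G]

/-- two proper subgroups do not cover a group -/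
theorem H24.not_cover_two {P : Type*} [Group P] (B M : Subgroup P) (hB : B ≠ ⊤) (hM : M ≠ ⊤)
    (h : ∀ y : P, y ∈ B ∨ y ∈ M) : False := by
  obtain ⟨x, hx⟩ : ∃ x, x ∉ B := by
    by_contra hh; push Not at hh; exact hB (eq_top_iff.mpr fun y _ => hh y)
  obtain ⟨y, hy⟩ : ∃ y, y ∉ M := by
    by_contra hh; push Not at hh; exact hM (eq_top_iff.mpr fun y _ => hh y)
  have hxM : x ∈ M := (h x).resolve_left hx
  have hyB : y ∈ B := (h y).resolve_right hy
  rcases h (x * y) with h1 | h1
  · exact hx (by simpa using B.mul_mem h1 (B.inv_mem hyB))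
  · exact hy (by simpa using M.mul_mem (M.inv_mem hxM) h1)

/-- [B9] Stage 2 assembly -/
theorem stage2 [Finite G] (p : ℕ) [Fact p.Prime] {a b : G} (P : Sylow p G)
    (hPa : (P : Subgroup G) ≤ centralizer ({a} : Set G)) (haP : a ∈ (P : Subgroup G))
    (hbP : b ∈ (P : Subgroup G)) (ha1 : a ≠ 1) (ha : cs a ≠ 1)
    (hcop : (cs a).Coprime (cs b)) (hpb : p ∣ cs b)
    (hnm : ∀ x : G, p ∣ orderOf x → p ∣ cs x → (cs x).Coprime (cs a)) : False := by
  classical
  have hp : p.Prime := Fact.out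
  -- `a` is a `p`-element
  have hap : ∃ k : ℕ, orderOf a = p ^ k := by
    obtain ⟨k, hk⟩ := (IsPGroup.iff_orderOf.mp P.2) ⟨a, haP⟩
    exact ⟨k, by rw [← hk, Subgroup.orderOf_mk]⟩
  have hQ := fun (k : G) (hk : k ∈ centralizer ({a} : Set G)) (hkp : (orderOf k).Coprime p) =>
    exists_sylow_le_cent_inf p hap ha1 ha hnm hk hkp
  have hdec := cent_eq_mul p P hPa hQ
  -- all conjugates of `b` lie in `P`
  have hbconj : ∀ g : G, g * b * g⁻¹ ∈ (P : Subgroup G) := by
    intro g
    obtain ⟨w, hw, e⟩ := conj_eq_conj_P p P hdec hbP hcop.symm g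
    rw [e]
    exact mul_mem (mul_mem hw hbP) (inv_mem hw)
  have hbS : ∀ Q : Sylow p G, b ∈ (Q : Subgroup G) := by
    intro Q
    obtain ⟨g, hg⟩ := MulAction.exists_smul_eq G P Q
    rw [← hg, Cfsg.Agent.Lib.Helper13.mem_smul_sylow_iff]
    have := hbconj g⁻¹
    rwa [inv_inv] at this
  -- some element of `P` does not commute with `b`
  have hy₀ : ∃ y₀ ∈ (P : Subgroup G), ¬ Commute y₀ b := by
    by_contra hcon
    push Not at hcon
    have hle : (P : Subgroup G) ≤ centralizer ({b} : Set G) := by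
      intro y hy
      rw [mem_cent]
      exact (hcon y hy).eq
    have h1 : cs b ∣ (P : Subgroup G).index := index_dvd_of_le hle
    exact P.not_dvd_index (hpb.trans h1)
  -- conjugates of noncommuting elements stay in `P`
  have hyconj : ∀ y ∈ (P : Subgroup G), ¬ Commute y b →
      ∀ g : G, ∃ w ∈ (P : Subgroup G), g * y * g⁻¹ = w * y * w⁻¹ := by
    intro y hy hyb g
    exact conj_eq_conj_P p P hdec hy (coprime_of_not_commute p P hnm hbS hy hyb) g
  have hnorm : (P : Subgroup G).Normal := by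
    apply normal_of_conj_mem p P _ hy₀
    intro y hy hyb g
    obtain ⟨w, hw, e⟩ := hyconj y hy hyb g
    rw [e]
    exact mul_mem (mul_mem hw hy) (inv_mem hw)
  -- a complement
  have hnorm' : (P : Subgroup G).Normal := hnorm
  obtain ⟨K₁, hK⟩ := Subgroup.exists_right_complement'_of_coprime
    (N := (P : Subgroup G)) P.card_coprime_index
  -- the covering of `P`
  have hcov : ∀ y : (P : Subgroup G),
      y ∈ (centralizer ({b} : Set G)).subgroupOf (P : Subgroup G) ∨
      ∃ u : (P : Subgroup G), u⁻¹ * y * u ∈ (centralizer (K₁ : Set G)).subgroupOf (P : Subgroup G) := by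
    intro y
    by_cases hyb : Commute (y : G) b
    · left
      rw [mem_subgroupOf, mem_cent]
      exact hyb.eq
    · right
      obtain ⟨u, hu, huk⟩ := exists_conj_compl_commute p P hnorm K₁ hK (y : G)
        (hyconj y y.2 hyb)
      refine ⟨⟨u, hu⟩, ?_⟩
      rw [mem_subgroupOf, mem_centralizer_iff]
      intro k hk
      have h1 := (huk k hk).eq
      simp only [Subgroup.coe_mul, Subgroup.coe_inv]
      calc k * (u⁻¹ * (y : G) * u) = u⁻¹ * ((u * k * u⁻¹) * (y : G)) * u := by group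
        _ = u⁻¹ * ((y : G) * (u * k * u⁻¹)) * u := by rw [h1]
        _ = u⁻¹ * (y : G) * u * k := by group
  have hBtop : (centralizer ({b} : Set G)).subgroupOf (P : Subgroup G) ≠ ⊤ := by
    intro h
    obtain ⟨y₀, hy₀P, hy₀b⟩ := hy₀
    have : (⟨y₀, hy₀P⟩ : (P : Subgroup G)) ∈
        (centralizer ({b} : Set G)).subgroupOf (P : Subgroup G) := by rw [h]; trivial
    rw [mem_subgroupOf, mem_cent] at this
    exact hy₀b this
  have hC₀ := pgroup_cover p P.2 _ _ hBtop hcov
  -- `K₁` centralizes `P`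
  have hKP : ∀ k ∈ K₁, ∀ y ∈ (P : Subgroup G), k * y = y * k := by
    intro k hk y hy
    have : (⟨y, hy⟩ : (P : Subgroup G)) ∈
        (centralizer (K₁ : Set G)).subgroupOf (P : Subgroup G) := by rw [hC₀]; trivial
    rw [mem_subgroupOf, mem_centralizer_iff] at this
    exact this k hk
  -- `a` is central
  apply ha
  rw [cs_eq_one_iff, mem_center_iff]
  intro g
  obtain ⟨⟨⟨u, hu⟩, ⟨k, hk⟩⟩, hg, -⟩ := hK.existsUnique g
  simp only at hg
  subst hg
  have h1 : u * a = a * u := mem_cent.mp (hPa hu)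
  have h2 : k * a = a * k := hKP k hk a haP
  calc u * k * a = u * (k * a) := by group
    _ = u * (a * k) := by rw [h2]
    _ = (u * a) * k := by group
    _ = (a * u) * k := by rw [h1]
    _ = a * (u * k) := by group

end Cfsg.Agent.Lib.Helper24.PSing
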