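import Mathlib
import Cfsg.Agent.Lib.Helper4.PSingC12
import Cfsg.Agent.Lib.Helper13.PSingC4
import Cfsg.Agent.Lib.Helper16.PSingC3

/-!
S4321 [C5]: the graph statement in terms of `cs`.
-/

set_option autoImplicit false

namespace Cfsg.Agent.Lib.Helper24.PSing

open Subgroup
open Cfsg.Agent.Lib.Helper9.ClassGraph

variable {G : Type*} [Group G]

/-- [C5] the graph statement in terms of `cs` -/
theorem main [Finite G] (p : ℕ) [Fact p.Prime] (hZ : ¬ p ∣ Nat.card (center G)) (r s : ℕ)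
    (hr : r.Prime ∧ ∃ x : G, p ∣ orderOf x ∧ r ∣ cs x)
    (hs : s.Prime ∧ ∃ x : G, p ∣ orderOf x ∧ s ∣ cs x) (hrs : r ≠ s) :
    (∃ x : G, p ∣ orderOf x ∧ r * s ∣ cs x) ∨
    (∃ t : ℕ, (t.Prime ∧ ∃ x : G, p ∣ orderOf x ∧ t ∣ cs x) ∧ t ≠ r ∧ t ≠ s ∧
      (∃ x : G, p ∣ orderOf x ∧ r * t ∣ cs x) ∧ (∃ x : G, p ∣ orderOf x ∧ t * s ∣ cs x)) ∨
    (∃ t u : ℕ, (t.Prime ∧ ∃ x : G, p ∣ orderOf x ∧ t ∣ cs x) ∧
      (u.Prime ∧ ∃ x : G, p ∣ orderOf x ∧ u ∣ cs x) ∧ t ≠ r ∧ u ≠ s ∧ t ≠ u ∧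
      (∃ x : G, p ∣ orderOf x ∧ r * t ∣ cs x) ∧ (∃ x : G, p ∣ orderOf x ∧ t * u ∣ cs x) ∧
      (∃ x : G, p ∣ orderOf x ∧ u * s ∣ cs x)) :=
  main_of_key p (fun _ _ ha1 hap hb1 hbp => key_claim p hZ ha1 hap hb1 hbp)
    (fun _ hx => exists_pElt_of_sing p hx) r s hr hs hrs

end Cfsg.Agent.Lib.Helper24.PSing
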